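import Mathlib

/-!
Checker for derivations of coset equations `H * w u * g = H * w v` from defining relators, for a
group generated by an involution and one further element. Letters: `0` the involution, `1` the
second generator, `2` its inverse, `3` the identity, `4 + 2 j`, `5 + 2 j` a subgroup generator and
its inverse.
-/

namespace Cfsg.Agent.Lib.M24Pres72

/-- evaluate `n` before use -/
noncomputable def force {α : Type} (n : ℕ) (f : ℕ → α) : α :=
  Nat.rec (motive := fun _ => α) (f 0) (fun m _ => f (Nat.succ m)) n

theorem force_eq {α : Type} (n : ℕ) (f : ℕ → α) : force n f = f n := by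
  cases n <;> rfl

/-- lazy conjunction -/
noncomputable def andB (a b : Bool) : Bool := Bool.rec (motive := fun _ => Bool) false b a

theorem andB_iff {a b : Bool} : andB a b = true ↔ a = true ∧ b = true := by
  cases a <;> simp [andB]

/-- lazy choice -/
noncomputable def iteB {α : Type} (c : Bool) (a b : α) : α :=
  Bool.rec (motive := fun _ => α) b a c

theorem iteB_eq {α : Type} (c : Bool) (a b : α) : iteB c a b = if c = true then a else b := by
  cases c <;> rfl

/-- binary tree of packed numbers -/
inductive T
  | leaf (n : ℕ)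
  | node (l r : T)

/-- leaf number `i`, low bits first -/
noncomputable def T.leafAt (t : T) : ℕ → ℕ :=
  T.rec (motive := fun _ => ℕ → ℕ) (fun n _ => n)
    (fun _ _ fl fr i => iteB (Nat.beq (Nat.mod i 2) 0) (fl (Nat.div i 2)) (fr (Nat.div i 2))) t

/-- tree of rules `label = word`, with a hint -/
inductive RT
  | leaf (l : ℕ) (w : List ℕ) (ci rot : ℕ)
  | node (l r : RT)

/-- label of rule `r` -/
noncomputable def RT.label (t : RT) : ℕ → ℕ :=
  RT.rec (motive := fun _ => ℕ → ℕ) (fun l _ _ _ _ => l)
    (fun _ _ fl fr i => iteB (Nat.beq (Nat.mod i 2) 0) (fl (Nat.div i 2)) (fr (Nat.div i 2))) t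

/-- word of rule `r` -/
noncomputable def RT.word (t : RT) : ℕ → List ℕ :=
  RT.rec (motive := fun _ => ℕ → List ℕ) (fun _ w _ _ _ => w)
    (fun _ _ fl fr i => iteB (Nat.beq (Nat.mod i 2) 0) (fl (Nat.div i 2)) (fr (Nat.div i 2))) t

/-- the inverse of a letter -/
noncomputable def invL (l : ℕ) : ℕ :=
  iteB (Nat.ble 4 l) (iteB (Nat.beq (Nat.mod l 2) 0) (Nat.succ l) (Nat.pred l))
    (iteB (Nat.beq l 1) 2 (iteB (Nat.beq l 2) 1 l))

/-- packed fact number `i` -/
noncomputable def factAt (facts : T) (i : ℕ) : ℕ :=
  Nat.land (Nat.shiftRight (facts.leafAt (Nat.div i 128)) (Nat.mul (Nat.mod i 128) 40)) 1099511627775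

noncomputable def eSrc (e : ℕ) : ℕ := Nat.shiftRight e 22
noncomputable def eLab (e : ℕ) : ℕ := Nat.land (Nat.shiftRight e 17) 31
noncomputable def eTgt (e : ℕ) : ℕ := Nat.land e 131071

/-- source of a signed reference -/
noncomputable def rSrc (p e : ℕ) : ℕ := iteB (Nat.beq (Nat.mod p 2) 0) (eSrc e) (eTgt e)

/-- target of a signed reference -/
noncomputable def rTgt (p e : ℕ) : ℕ := iteB (Nat.beq (Nat.mod p 2) 0) (eTgt e) (eSrc e)

/-- label of a signed reference -/
noncomputable def rLab (p e : ℕ) : ℕ := iteB (Nat.beq (Nat.mod p 2) 0) (eLab e) (invL (eLab e))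

/-- follow `m` references of the stream from `cur` to `tgt`, reading the word `w` -/
noncomputable def follow (facts : T) (i tgt m : ℕ) : ℕ → ℕ → List ℕ → Bool :=
  Nat.rec (motive := fun _ => ℕ → ℕ → List ℕ → Bool)
    (fun _ cur w => andB (Nat.beq cur tgt) (List.rec (motive := fun _ => Bool) true (fun _ _ _ => false) w))
    (fun _ ih S cur w =>
      force S fun S' => force cur fun c => force (Nat.land S' 1048575) fun p =>
        andB (Nat.blt (Nat.div p 2) i) (force (factAt facts (Nat.div p 2)) fun e =>
          andB (Nat.beq c (rSrc p e))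
            (iteB (Nat.beq (rLab p e) 3)
              (ih (Nat.shiftRight S' 20) (rTgt p e) w)
              (List.rec (motive := fun _ => Bool) false
                (fun a w' _ => andB (Nat.beq a (rLab p e))
                  (ih (Nat.shiftRight S' 20) (rTgt p e) w')) w))))
    m

/-- fact `i` justified by the head of the stream; `cnt` nodes are defined so far -/
noncomputable def stepOK (facts : T) (rules : RT) (i cnt S : ℕ) : Bool :=
  force (Nat.land S 1048575) fun kind => force (factAt facts i) fun e =>
    iteB (Nat.beq kind 0)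
      (andB (Nat.blt (eSrc e) cnt) (andB (Nat.beq (eTgt e) cnt) (Nat.blt (eLab e) 3)))
      (iteB (Nat.beq kind 1)
        (andB (Nat.ble 4 (eLab e)) (andB (Nat.beq (eSrc e) 0) (Nat.beq (eTgt e) 0)))
        (andB (andB (Nat.blt (eSrc e) cnt) (Nat.blt (eTgt e) cnt))
          (andB (Nat.beq (rules.label (Nat.sub kind 2)) (eLab e))
            (follow facts i (eTgt e) (Nat.land (Nat.shiftRight S 20) 1048575) (Nat.shiftRight S 40)
              (eSrc e) (rules.word (Nat.sub kind 2))))))

/-- number of nodes after the head of the stream -/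
noncomputable def nextCnt (cnt S : ℕ) : ℕ :=
  iteB (Nat.beq (Nat.land S 1048575) 0) (Nat.succ cnt) cnt

/-- stream after its head -/
noncomputable def nextS (S : ℕ) : ℕ :=
  iteB (Nat.ble (Nat.land S 1048575) 1) (Nat.shiftRight S 20)
    (Nat.shiftRight S (Nat.mul 20 (Nat.add 2 (Nat.land (Nat.shiftRight S 20) 1048575))))

/-- `n` facts from one stream, then `k` -/
noncomputable def goStream (facts : T) (rules : RT) (n : ℕ) (k : ℕ → ℕ → Bool) :
    ℕ → ℕ → ℕ → Bool :=
  Nat.rec (motive := fun _ => ℕ → ℕ → ℕ → Bool) (fun i cnt _ => k i cnt)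
    (fun _ ih i cnt S => force i fun j => force cnt fun c => force S fun S' =>
      andB (stepOK facts rules j c S') (ih (Nat.succ j) (nextCnt c S') (nextS S'))) n

/-- several streams, ending with `fin` nodes -/
noncomputable def goStreams (facts : T) (rules : RT) (fin : ℕ) (L : List (ℕ × ℕ)) : ℕ → ℕ → Bool :=
  List.rec (motive := fun _ => ℕ → ℕ → Bool) (fun _ cnt => Nat.beq cnt fin)
    (fun q _ ih i cnt => goStream facts rules q.1 ih i cnt q.2) L

/-- number of facts in a list of streams -/
def total : List (ℕ × ℕ) → ℕ
  | [] => 0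
  | (n, _) :: r => n + total r

/-- rotation of a word -/
def rotate (c : List ℕ) (m : ℕ) : List ℕ := c.drop m ++ c.take m

/-- the inverse of a word -/
noncomputable def invW (w : List ℕ) : List ℕ := w.reverse.map invL

/-- words equal to one -/
noncomputable def cyc (rels subs : List (List ℕ)) : List (List ℕ) :=
  rels ++ rels.map invW ++ subs.mapIdx (fun j w => (5 + 2 * j) :: w) ++
    (subs.mapIdx fun j w => (5 + 2 * j) :: w).map invW

/-- a rule follows from the cyclic words -/
noncomputable def ruleOK (cy : List (List ℕ)) (l : ℕ) (w : List ℕ) (ci rot : ℕ) : Bool :=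
  (Nat.beq l 3 && w.isEmpty) || (w == [l]) ||
    (Nat.beq l 3 && (w == [w.headD 0, invL (w.headD 0)])) ||
      (ci < cy.length && (rotate (cy.getD ci []) rot == if l = 3 then w else w ++ [invL l]))

/-- every rule follows from the cyclic words -/
noncomputable def rulesOK (cy : List (List ℕ)) (t : RT) : Bool :=
  RT.rec (motive := fun _ => Bool) (fun l w ci rot => ruleOK cy l w ci rot)
    (fun _ _ a b => andB a b) t

/-- entry `i` of the final table: node, then for each generator a reference and a position -/
noncomputable def finAt (fin : T) (i : ℕ) : ℕ :=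
  Nat.land (Nat.shiftRight (fin.leafAt (Nat.div i 32)) (Nat.mul (Nat.mod i 32) 128))
    340282366920938463463374607431768211455

noncomputable def finNode (e : ℕ) : ℕ := Nat.land e 262143
noncomputable def finRef (e g : ℕ) : ℕ := Nat.land (Nat.shiftRight e (Nat.add 18 (Nat.mul 35 g))) 1048575
noncomputable def finPos (e g : ℕ) : ℕ := Nat.land (Nat.shiftRight e (Nat.add 38 (Nat.mul 35 g))) 32767

/-- the final nodes are closed under generator `g` -/
noncomputable def finGen (facts fin : T) (N n e g : ℕ) : Bool :=
  force (finRef e g) fun p => force (finPos e g) fun q =>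
    andB (andB (Nat.blt (Nat.div p 2) N) (Nat.blt q n)) (force (factAt facts (Nat.div p 2)) fun d =>
      andB (Nat.beq (rSrc p d) (finNode e))
        (andB (Nat.beq (rLab p d) g) (Nat.beq (rTgt p d) (finNode (finAt fin q)))))

/-- `m` entries of the final table from entry `i` on are closed -/
noncomputable def finOK (facts fin : T) (N n m : ℕ) : ℕ → Bool :=
  Nat.rec (motive := fun _ => ℕ → Bool) (fun _ => true)
    (fun _ ih i => force i fun j => force (finAt fin j) fun e =>
      andB (andB (finGen facts fin N n e 0) (andB (finGen facts fin N n e 1) (finGen facts fin N n e 2)))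
        (ih (Nat.succ j))) m

end Cfsg.Agent.Lib.M24Pres72
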