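import Mathlib
import Cfsg.Agent.Lib.M24Pres72.Check

/-! Soundness of the checker: a bound on the index of the subgroup. -/

namespace Cfsg.Agent.Lib.M24Pres72

theorem follow_succ (facts : T) (i tgt m S cur : ℕ) (w : List ℕ) :
    follow facts i tgt (m + 1) S cur w =
      andB (Nat.blt (Nat.div (Nat.land S 1048575) 2) i)
        (andB (Nat.beq cur (rSrc (Nat.land S 1048575) (factAt facts (Nat.div (Nat.land S 1048575) 2))))
          (iteB (Nat.beq (rLab (Nat.land S 1048575) (factAt facts (Nat.div (Nat.land S 1048575) 2))) 3)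
            (follow facts i tgt m (Nat.shiftRight S 20) (rTgt (Nat.land S 1048575) (factAt facts (Nat.div (Nat.land S 1048575) 2))) w)
            (List.rec (motive := fun _ => Bool) false
              (fun a w' _ => andB (Nat.beq a (rLab (Nat.land S 1048575) (factAt facts (Nat.div (Nat.land S 1048575) 2))))
                (follow facts i tgt m (Nat.shiftRight S 20) (rTgt (Nat.land S 1048575) (factAt facts (Nat.div (Nat.land S 1048575) 2))) w')) w))) := by
  simp only [follow, force_eq]

theorem goStream_succ (facts : T) (rules : RT) (n : ℕ) (k : ℕ → ℕ → Bool) (i cnt S : ℕ) :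
    goStream facts rules (n + 1) k i cnt S =
      andB (stepOK facts rules i cnt S)
        (goStream facts rules n k (Nat.succ i) (nextCnt cnt S) (nextS S)) := by
  simp only [goStream, force_eq]

theorem finOK_succ (facts fin : T) (N n m i : ℕ) :
    finOK facts fin N n (m + 1) i =
      andB (andB (finGen facts fin N n (finAt fin i) 0)
          (andB (finGen facts fin N n (finAt fin i) 1) (finGen facts fin N n (finAt fin i) 2)))
        (finOK facts fin N n m (Nat.succ i)) := by
  simp only [finOK, force_eq]

theorem beqIff {m n : ℕ} : Nat.beq m n = true ↔ m = n :=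
  ⟨Nat.eq_of_beq_eq_true, by rintro rfl; exact Nat.beq_refl m⟩

theorem bleIff {m n : ℕ} : Nat.ble m n = true ↔ m ≤ n :=
  ⟨Nat.le_of_ble_eq_true, Nat.ble_eq_true_of_le⟩

theorem bltIff {m n : ℕ} : Nat.blt m n = true ↔ m < n := bleIff

theorem modEq (m n : ℕ) : Nat.mod m n = m % n := rfl
theorem divEq (m n : ℕ) : Nat.div m n = m / n := rfl

theorem invL_eq (l : ℕ) : invL l = if 4 ≤ l then (if l % 2 = 0 then l + 1 else l - 1)
    else if l = 1 then 2 else if l = 2 then 1 else l := by
  simp only [invL, iteB_eq, beqIff, bleIff, modEq, Nat.succ_eq_add_one, Nat.pred_eq_sub_one]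

variable {F : Type*} [Group F] (a b : F) (rels subs : List (List ℕ))

/-- value of a letter, with `h j` the subgroup generators -/
def letterVal (h : ℕ → F) (l : ℕ) : F :=
  if l = 0 then a else if l = 1 then b else if l = 2 then b⁻¹ else if l = 3 then 1
  else if l % 2 = 0 then h ((l - 4) / 2) else (h ((l - 4) / 2))⁻¹

/-- value of a word -/
def wordVal (h : ℕ → F) (w : List ℕ) : F := (w.map (letterVal a b h)).prod

/-- value of a word in `a`, `b` -/
def plainVal (w : List ℕ) : F := wordVal a b (fun _ => 1) w

/-- subgroup generators -/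
def subGen (j : ℕ) : F := plainVal a b (subs.getD j [])

/-- hypotheses on the group -/
structure Model : Prop where
  sq : a * a = 1
  rel : ∀ w ∈ rels, plainVal a b w = 1
  gen : Subgroup.closure ({a, b} : Set F) = ⊤
  plain : ∀ w ∈ rels ++ subs, ∀ l ∈ w, l < 3

variable {a b rels subs}

local notation "val" => letterVal a b (subGen a b subs)
local notation "ev" => wordVal a b (subGen a b subs)

theorem wordVal_nil : ev [] = 1 := rfl
theorem wordVal_cons (l : ℕ) (w : List ℕ) : ev (l :: w) = val l * ev w := by simp [wordVal]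
theorem wordVal_append (u w : List ℕ) : ev (u ++ w) = ev u * ev w := by simp [wordVal]

theorem val_three : val 3 = 1 := by simp [letterVal]

theorem val_invL (M : Model a b rels subs) (l : ℕ) : val (invL l) = (val l)⁻¹ := by
  have hsq : a = a⁻¹ := eq_inv_of_mul_eq_one_left M.sq
  by_cases h4 : 4 ≤ l
  · by_cases he : l % 2 = 0
    · have e : invL l = l + 1 := by simp [invL_eq, h4, he]
      have e2 : (l + 1 - 4) / 2 = (l - 4) / 2 := by omega
      have e3 : (l + 1) % 2 ≠ 0 := by omega
      rw [e, letterVal, letterVal]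
      simp only [show l + 1 ≠ 0 by omega, show l + 1 ≠ 1 by omega, show l + 1 ≠ 2 by omega,
        show l + 1 ≠ 3 by omega, show l ≠ 0 by omega, show l ≠ 1 by omega, show l ≠ 2 by omega,
        show l ≠ 3 by omega, if_false, e2, e3, he, if_true]
    · have e : invL l = l - 1 := by simp [invL_eq, h4, he]
      have e2 : (l - 1 - 4) / 2 = (l - 4) / 2 := by omega
      have e3 : (l - 1) % 2 = 0 := by omega
      rw [e, letterVal, letterVal]
      simp only [show l - 1 ≠ 0 by omega, show l - 1 ≠ 1 by omega, show l - 1 ≠ 2 by omega,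
        show l - 1 ≠ 3 by omega, show l ≠ 0 by omega, show l ≠ 1 by omega, show l ≠ 2 by omega,
        show l ≠ 3 by omega, if_false, e2, e3, he, if_true, inv_inv]
  · interval_cases l <;> simp [invL_eq, letterVal, ← hsq]

theorem wordVal_invW (M : Model a b rels subs) : ∀ w : List ℕ, ev (invW w) = (ev w)⁻¹
  | [] => by simp [invW, wordVal]
  | l :: w => by
    have e : invW (l :: w) = invW w ++ [invL l] := by simp [invW]
    rw [e, wordVal_append, wordVal_invW M w, wordVal_cons, wordVal_cons, wordVal_nil, mul_one,
      val_invL M, mul_inv_rev]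

theorem wordVal_plain {w : List ℕ} (h : ∀ l ∈ w, l < 3) : ev w = plainVal a b w := by
  unfold plainVal wordVal
  congr 1
  refine List.map_congr_left fun l hl => ?_
  have := h l hl
  interval_cases l <;> simp [letterVal]

theorem cyc_one (M : Model a b rels subs) {c : List ℕ} (hc : c ∈ cyc rels subs) : ev c = 1 := by
  have h1 : ∀ w ∈ rels, ev w = 1 := fun w hw => by
    rw [wordVal_plain (M.plain w (List.mem_append_left _ hw)), M.rel w hw]
  have h2 : ∀ w ∈ subs.mapIdx (fun j w => (5 + 2 * j) :: w), ev w = 1 := by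
    intro w hw
    obtain ⟨j, hj, rfl⟩ := List.mem_mapIdx.1 hw
    rw [wordVal_cons, wordVal_plain (M.plain _ (List.mem_append_right _ (List.getElem_mem hj)))]
    have e : letterVal a b (subGen a b subs) (5 + 2 * j) = (subGen a b subs j)⁻¹ := by
      simp only [letterVal, show 5 + 2 * j ≠ 0 by omega, show 5 + 2 * j ≠ 1 by omega,
        show 5 + 2 * j ≠ 2 by omega, show 5 + 2 * j ≠ 3 by omega, if_false,
        show (5 + 2 * j) % 2 ≠ 0 by omega, show (5 + 2 * j - 4) / 2 = j by omega]
    rw [e, subGen, List.getD_eq_getElem _ _ hj, inv_mul_cancel]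
  simp only [cyc, List.mem_append, List.mem_map] at hc
  rcases hc with ((hc | ⟨w, hw, rfl⟩) | hc) | ⟨w, hw, rfl⟩
  · exact h1 _ hc
  · rw [wordVal_invW M, h1 _ hw, inv_one]
  · exact h2 _ hc
  · rw [wordVal_invW M, h2 _ hw, inv_one]

theorem wordVal_rotate {c : List ℕ} (h : ev c = 1) (m : ℕ) : ev (rotate c m) = 1 := by
  rw [← List.take_append_drop m c, wordVal_append] at h
  rw [rotate, wordVal_append]
  exact mul_eq_one_comm.1 h

theorem rules_spec (M : Model a b rels subs) : ∀ {t : RT}, rulesOK (cyc rels subs) t = true →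
    ∀ r, ev (t.word r) = val (t.label r)
  | .leaf l w ci rot, h, r => by
    change ev w = val l
    change ruleOK (cyc rels subs) l w ci rot = true at h
    simp only [ruleOK, Bool.or_eq_true, Bool.and_eq_true, beqIff, List.isEmpty_iff,
      beq_iff_eq, decide_eq_true_eq] at h
    rcases h with ((⟨rfl, rfl⟩ | rfl) | ⟨rfl, hw⟩) | ⟨hci, hw⟩
    · rw [wordVal_nil, val_three]
    · rw [wordVal_cons, wordVal_nil, mul_one]
    · rw [hw, wordVal_cons, wordVal_cons, wordVal_nil, mul_one, val_invL M, mul_inv_cancel,
        val_three]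
    · have h1 := wordVal_rotate (cyc_one M (List.getElem_mem hci)) rot
      rw [List.getD_eq_getElem _ _ hci] at hw
      rw [hw] at h1
      split at h1
      next hl => subst hl; rw [h1, val_three]
      next =>
        rw [wordVal_append, wordVal_cons, wordVal_nil, mul_one, val_invL M] at h1
        exact mul_inv_eq_one.1 h1
  | .node l r, h, i => by
    change andB (rulesOK _ l) (rulesOK _ r) = true at h
    obtain ⟨hl, hr⟩ := andB_iff.1 h
    change ev (iteB (Nat.beq (Nat.mod i 2) 0) (l.word (Nat.div i 2)) (r.word (Nat.div i 2))) =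
      val (iteB (Nat.beq (Nat.mod i 2) 0) (l.label (Nat.div i 2)) (r.label (Nat.div i 2)))
    cases Nat.beq (Nat.mod i 2) 0
    · exact rules_spec M hr _
    · exact rules_spec M hl _

variable (a b subs) in
/-- the subgroup -/
def subH : Subgroup F := Subgroup.closure (Set.range (subGen a b subs))

variable (a b subs) in
/-- the first `i` facts hold for a labelling of the first `cnt` nodes -/
def Valid (facts : T) (i cnt : ℕ) (w : ℕ → F) : Prop :=
  w 0 = 1 ∧ 1 ≤ cnt ∧ ∀ j < i, eSrc (factAt facts j) < cnt ∧ eTgt (factAt facts j) < cnt ∧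
    w (eSrc (factAt facts j)) * letterVal a b (subGen a b subs) (eLab (factAt facts j)) *
      (w (eTgt (factAt facts j)))⁻¹ ∈ subH a b subs

theorem ref_mem (M : Model a b rels subs) {facts : T} {i cnt : ℕ} {w : ℕ → F}
    (V : Valid a b subs facts i cnt w) {p : ℕ} (hp : p / 2 < i) :
    w (rSrc p (factAt facts (Nat.div p 2))) * val (rLab p (factAt facts (Nat.div p 2))) * (w (rTgt p (factAt facts (Nat.div p 2))))⁻¹ ∈ subH a b subs := by
  obtain ⟨-, -, h⟩ := V.2.2 _ hp
  by_cases hm : p % 2 = 0
  · simpa only [rSrc, rLab, rTgt, iteB_eq, beqIff, modEq, divEq, if_pos hm] using h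
  · simp only [rSrc, rLab, rTgt, iteB_eq, beqIff, modEq, divEq, if_neg hm, val_invL M]
    simpa [mul_assoc] using (subH a b subs).inv_mem h

theorem follow_mem (M : Model a b rels subs) {facts : T} {i cnt : ℕ} {w : ℕ → F}
    (V : Valid a b subs facts i cnt w) (tgt : ℕ) : ∀ (m S cur : ℕ) (L : List ℕ),
      follow facts i tgt m S cur L = true → w cur * ev L * (w tgt)⁻¹ ∈ subH a b subs
  | 0, S, cur, L, h => by
    change andB (Nat.beq cur tgt) _ = true at h
    obtain ⟨h1, h2⟩ := andB_iff.1 h
    rw [Nat.eq_of_beq_eq_true h1]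
    cases L with
    | nil => simp [wordVal_nil, one_mem]
    | cons l L => exact absurd h2 (by simp)
  | m + 1, S, cur, L, h => by
    rw [follow_succ, andB_iff, andB_iff] at h
    obtain ⟨h1, h2, h3⟩ := h
    have hr := ref_mem M V (p := Nat.land S 1048575) (by simpa only [bltIff, divEq] using h1)
    rw [Nat.eq_of_beq_eq_true h2]
    rw [iteB_eq] at h3
    split at h3
    next hl =>
      rw [Nat.eq_of_beq_eq_true hl, val_three, mul_one] at hr
      have := (subH a b subs).mul_mem hr (follow_mem M V tgt m _ _ _ h3)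
      simpa [mul_assoc] using this
    next =>
      cases L with
      | nil => exact absurd h3 (by simp)
      | cons l L =>
        obtain ⟨h4, h5⟩ := andB_iff.1 h3
        rw [wordVal_cons, Nat.eq_of_beq_eq_true h4]
        have := (subH a b subs).mul_mem hr (follow_mem M V tgt m _ _ _ h5)
        simpa [mul_assoc] using this

theorem step_valid (M : Model a b rels subs) {facts : T} {rules : RT}
    (hR : rulesOK (cyc rels subs) rules = true) {i cnt S : ℕ} {w : ℕ → F}
    (V : Valid a b subs facts i cnt w) (h : stepOK facts rules i cnt S = true) :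
    ∃ w', Valid a b subs facts (i + 1) (nextCnt cnt S) w' := by
  simp only [stepOK, force_eq, iteB_eq] at h
  unfold nextCnt
  rw [iteB_eq]
  obtain ⟨h0, h1, hV⟩ := V
  split at h
  next hk =>
    rw [if_pos hk]
    simp only [andB_iff, bltIff] at h
    obtain ⟨hs, ht, hl⟩ := h
    have ht := Nat.eq_of_beq_eq_true ht
    refine ⟨Function.update w cnt (w (eSrc (factAt facts i)) * val (eLab (factAt facts i))), ?_, by omega, ?_⟩
    · rw [Function.update_of_ne (by omega)]; exact h0
    · intro j hj
      rcases Nat.lt_succ_iff_lt_or_eq.1 hj with hj | rfl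
      · obtain ⟨a1, a2, a3⟩ := hV j hj
        refine ⟨by omega, by omega, ?_⟩
        rwa [Function.update_of_ne (by omega), Function.update_of_ne (by omega)]
      · refine ⟨by omega, by omega, ?_⟩
        rw [Function.update_of_ne (by omega), ht, Function.update_self, mul_inv_cancel]
        exact one_mem _
  next hk =>
    rw [if_neg hk]
    refine ⟨w, h0, h1, fun j hj => ?_⟩
    rcases Nat.lt_succ_iff_lt_or_eq.1 hj with hj | rfl
    · exact hV j hj
    split at h
    next =>
      simp only [andB_iff] at h
      obtain ⟨hl, hs, ht⟩ := h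
      rw [Nat.eq_of_beq_eq_true hs, Nat.eq_of_beq_eq_true ht, h0, one_mul, inv_one, mul_one]
      have h4 : 4 ≤ eLab (factAt facts j) := Nat.le_of_ble_eq_true hl
      refine ⟨by omega, by omega, ?_⟩
      simp only [letterVal, show eLab (factAt facts j) ≠ 0 by omega,
        show eLab (factAt facts j) ≠ 1 by omega, show eLab (factAt facts j) ≠ 2 by omega,
        show eLab (factAt facts j) ≠ 3 by omega, if_false]
      split
      · exact Subgroup.subset_closure ⟨_, rfl⟩
      · exact inv_mem (Subgroup.subset_closure ⟨_, rfl⟩)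
    next =>
      simp only [andB_iff, bltIff] at h
      obtain ⟨⟨hs, ht⟩, hl, hf⟩ := h
      refine ⟨hs, ht, ?_⟩
      have := follow_mem M ⟨h0, h1, hV⟩ _ _ _ _ _ hf
      rwa [rules_spec M hR, Nat.eq_of_beq_eq_true hl] at this

theorem goStream_valid (M : Model a b rels subs) {facts : T} {rules : RT}
    (hR : rulesOK (cyc rels subs) rules = true) {k : ℕ → ℕ → Bool} : ∀ (n i cnt S : ℕ),
      goStream facts rules n k i cnt S = true → (∃ w, Valid a b subs facts i cnt w) →
      ∃ c, k (i + n) c = true ∧ ∃ w, Valid a b subs facts (i + n) c w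
  | 0, i, cnt, S, h, V => ⟨cnt, h, V⟩
  | n + 1, i, cnt, S, h, ⟨w, V⟩ => by
    rw [goStream_succ, andB_iff] at h
    obtain ⟨h1, h2⟩ := h
    have := goStream_valid M hR n _ _ _ h2 (step_valid M hR V h1)
    simpa [Nat.add_assoc, Nat.add_comm 1 n] using this

theorem goStreams_valid (M : Model a b rels subs) {facts : T} {rules : RT}
    (hR : rulesOK (cyc rels subs) rules = true) {fin : ℕ} : ∀ (L : List (ℕ × ℕ)) (i cnt : ℕ),
      goStreams facts rules fin L i cnt = true → (∃ w, Valid a b subs facts i cnt w) →
      ∃ w, Valid a b subs facts (i + total L) fin w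
  | [], i, cnt, h, V => by
    rw [← Nat.eq_of_beq_eq_true h]; exact V
  | (n, S) :: L, i, cnt, h, V => by
    obtain ⟨c, h1, h2⟩ := goStream_valid M hR n i cnt S h V
    have := goStreams_valid M hR L _ _ h1 h2
    simpa [total, Nat.add_assoc] using this

theorem valid_start (facts : T) : ∃ w : ℕ → F, Valid a b subs facts 0 1 w :=
  ⟨fun _ => 1, rfl, le_rfl, fun _ hj => absurd hj (by omega)⟩

theorem finOK_spec {facts fin : T} {N n : ℕ} : ∀ (m i : ℕ), finOK facts fin N n m i = true →
    ∀ j, i ≤ j → j < i + m → ∀ g < 3, finGen facts fin N n (finAt fin j) g = true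
  | 0, i, _, j, h1, h2 => by omega
  | m + 1, i, h, j, h1, h2 => by
    rw [finOK_succ] at h
    simp only [andB_iff] at h
    obtain ⟨⟨g0, g1, g2⟩, h⟩ := h
    rcases Nat.lt_or_ge i j with hij | hij
    · exact finOK_spec m (Nat.succ i) h j hij (by omega)
    · obtain rfl : i = j := by omega
      intro g hg
      interval_cases g <;> assumption

/-- the index bound -/
theorem index_le (M : Model a b rels subs) {facts fin : T} {i cnt : ℕ} {w : ℕ → F}
    (V : Valid a b subs facts i cnt w) {n : ℕ} (hn : 0 < n) (h0 : finNode (finAt fin 0) = 0)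
    (h : finOK facts fin i n n 0 = true) :
    (subH a b subs).FiniteIndex ∧ (subH a b subs).index ≤ n := by
  classical
  let S : F → Prop := fun f => ∃ k < n, f * (w (finNode (finAt fin k)))⁻¹ ∈ subH a b subs
  have hone : S 1 := ⟨0, hn, by rw [h0, V.1]; simp [one_mem]⟩
  have step : ∀ g < 3, ∀ f, S f → S (f * letterVal a b (subGen a b subs) g) := by
    rintro g hg f ⟨k, hk, hf⟩
    have hs := finOK_spec n 0 h k (Nat.zero_le _) (by omega) g hg
    simp only [finGen, force_eq, andB_iff, bltIff] at hs
    obtain ⟨⟨hp, hq⟩, hs, hl, ht⟩ := hs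
    have hr := ref_mem M V hp
    rw [Nat.eq_of_beq_eq_true hs, Nat.eq_of_beq_eq_true hl, Nat.eq_of_beq_eq_true ht] at hr
    exact ⟨_, hq, by simpa [mul_assoc] using (subH a b subs).mul_mem hf hr⟩
  have all : ∀ f, S f := by
    intro f
    have hf : f ∈ Subgroup.closure ({a, b} : Set F) := M.gen ▸ trivial
    induction hf using Subgroup.closure_induction_right with
    | one => exact hone
    | mul_right x y _ hy ih =>
      rcases hy with rfl | rfl
      · simpa [letterVal] using step 0 (by omega) x ih
      · simpa [letterVal] using step 1 (by omega) x ih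
    | mul_inv_cancel x y _ hy ih =>
      rcases hy with hy | hy <;> subst hy
      · simpa [letterVal, ← eq_inv_of_mul_eq_one_left M.sq] using step 0 (by omega) x ih
      · simpa [letterVal] using step 2 (by omega) x ih
  let q : Fin n → F ⧸ subH a b subs := fun k => QuotientGroup.mk (w (finNode (finAt fin k)))⁻¹
  have hq : Function.Surjective q := by
    intro x
    induction x using QuotientGroup.induction_on with
    | H g =>
      obtain ⟨k, hk, hm⟩ := all g⁻¹
      refine ⟨⟨k, hk⟩, QuotientGroup.eq.2 ?_⟩
      simpa using (subH a b subs).inv_mem hm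
  haveI : Finite (F ⧸ subH a b subs) := Finite.of_surjective q hq
  refine ⟨Subgroup.finiteIndex_of_finite_quotient, ?_⟩
  rw [Subgroup.index]
  simpa using Nat.card_le_card_of_surjective q hq

end Cfsg.Agent.Lib.M24Pres72
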