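import Mathlib
import Cfsg.Agent.Lib.M24Pres72.Sound
import Cfsg.Agent.Lib.M24Pres72.Rules

/-! The subgroup generators commute with the involution. -/

namespace Cfsg.Agent.Lib.M24Pres72

variable {F : Type*} [Group F] {a b : F}

theorem inv_of_sq (ha : a * a = 1) : a⁻¹ = a := inv_eq_of_mul_eq_one_right ha

theorem comm_pow (ha : a * a = 1) {e : F} (he : e * e = 1) (h : (a * e) ^ 12 = 1) :
    Commute a ((a * e) ^ 6) := by
  have h1 : a * (a * e) ^ 6 * a⁻¹ = ((a * e) ^ 6)⁻¹ := by
    rw [← conj_pow, ← inv_pow]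
    congr 1
    rw [mul_inv_rev, inv_of_sq ha, inv_of_sq he, ← mul_assoc, ha, one_mul]
  have h2 : ((a * e) ^ 6)⁻¹ = (a * e) ^ 6 :=
    inv_eq_of_mul_eq_one_right (by rw [← pow_add]; exact h)
  exact mul_inv_eq_iff_eq_mul.1 (h1.trans h2)

theorem bray (ha : a * a = 1) {g : F} (h : (a * (g⁻¹ * a * g)) ^ 5 = 1) :
    Commute a (g * (a * (g⁻¹ * a * g)) ^ 2) := by
  set e := g⁻¹ * a * g with he
  have e2 : e * e = 1 := by
    rw [he]; simp only [mul_assoc, mul_inv_cancel_left]; rw [← mul_assoc a, ha, one_mul, inv_mul_cancel]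
  have hi : (a * e)⁻¹ = e * a := by rw [mul_inv_rev, inv_of_sq ha, inv_of_sq e2]
  have h4 : (a * e) ^ 4 = e * a := by
    rw [← hi]; exact eq_inv_of_mul_eq_one_left (by rw [← pow_succ]; exact h)
  have key : ((a * e) ^ 2)⁻¹ * e * (a * e) ^ 2 = a := by
    rw [← inv_pow, hi]
    have : (e * a) ^ 2 * e * (a * e) ^ 2 = e * (a * e) ^ 4 := by
      simp only [pow_succ, pow_zero, one_mul, mul_assoc]
    rw [this, h4, ← mul_assoc, e2, one_mul]
  show a * (g * (a * e) ^ 2) = g * (a * e) ^ 2 * a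
  calc a * (g * (a * e) ^ 2) = g * (e * (a * e) ^ 2) := by rw [he]; simp only [mul_assoc, mul_inv_cancel_left]
    _ = g * ((a * e) ^ 2 * (((a * e) ^ 2)⁻¹ * e * (a * e) ^ 2)) := by
      simp only [mul_assoc, mul_inv_cancel_left]
    _ = g * (a * e) ^ 2 * a := by rw [key, mul_assoc]

theorem pow_one_of_conj {g u v : F} {n : ℕ} (h : v ^ n = 1) (e : u = g * v * g⁻¹) : u ^ n = 1 := by
  rw [e, conj_pow, h, mul_one, mul_inv_cancel]

/-- every generator of the subgroup commutes with `a` -/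
theorem sub_comm (M : Model a b relW subW) (j : ℕ) : Commute a (subGen a b subW j) := by
  have ha := M.sq
  have hai := inv_of_sq ha
  have haa : ∀ u : F, a * (a * u) = u := fun u => by rw [← mul_assoc, ha, one_mul]
  have r2 := M.rel (relW.getD 2 []) (by simp [relW])
  have r3 := M.rel (relW.getD 3 []) (by simp [relW])
  have r4 := M.rel (relW.getD 4 []) (by simp [relW])
  have c12 : (a * (b⁻¹ * a * b)) ^ 12 = 1 := by
    simpa [relW, plainVal, wordVal, letterVal, pow_succ, mul_assoc] using r4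
  have c5 : (a * ((b * a * b)⁻¹ * a * (b * a * b))) ^ 5 = 1 := by
    simpa [relW, plainVal, wordVal, letterVal, pow_succ, mul_assoc, hai] using r3
  have d12 : (a * (b * a * b⁻¹)) ^ 12 = 1 :=
    pow_one_of_conj (g := b * a) c12 (by simp [mul_assoc, hai, haa, ha])
  have d5 : (a * ((b⁻¹ * a * b⁻¹)⁻¹ * a * (b⁻¹ * a * b⁻¹))) ^ 5 = 1 :=
    pow_one_of_conj (g := a * (b * a * b)) c5 (by simp [mul_assoc, hai, haa, ha])
  have inv_e : ∀ u : F, (u⁻¹ * a * u) * (u⁻¹ * a * u) = 1 := fun u => by simp [mul_assoc, haa, ha]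
  have p3 : Commute a ((a * b * a * b * a * b⁻¹) ^ 3) := by
    set P := a * b * a * b * a * b⁻¹ with hP
    have h1 : P ^ 3 * (a * b * a * b⁻¹ * a * b⁻¹) ^ 3 = 1 := by
      rw [hP]
      simpa [relW, plainVal, wordVal, letterVal, pow_succ, mul_assoc] using r2
    have h2 : a * P * a⁻¹ = (a * b * a * b⁻¹ * a * b⁻¹)⁻¹ := by
      rw [hP]; simp [mul_assoc, hai, haa, ha]
    have h3 : a * P ^ 3 * a⁻¹ = P ^ 3 := by
      rw [← conj_pow, h2, inv_pow]; exact (eq_inv_of_mul_eq_one_left h1).symm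
    exact mul_inv_eq_iff_eq_mul.1 h3
  match j with
  | 0 =>
    have := comm_pow ha (inv_e b) c12
    simpa [subGen, subW, plainVal, wordVal, letterVal, pow_succ, mul_assoc] using this
  | 1 =>
    have := bray ha c5
    simpa [subGen, subW, plainVal, wordVal, letterVal, pow_succ, mul_assoc, hai] using this
  | 2 =>
    have := comm_pow ha (by simpa using inv_e b⁻¹) d12
    simpa [subGen, subW, plainVal, wordVal, letterVal, pow_succ, mul_assoc] using this
  | 3 => simpa [subGen, subW, plainVal, wordVal, letterVal, pow_succ, mul_assoc] using p3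
  | 4 =>
    have := bray ha d5
    simpa [subGen, subW, plainVal, wordVal, letterVal, pow_succ, mul_assoc, hai] using this
  | 5 => simp [subGen, subW, plainVal, wordVal, letterVal]
  | n + 6 => simp [subGen, subW, plainVal, wordVal]

theorem subH_le_centralizer (M : Model a b relW subW) :
    subH a b subW ≤ Subgroup.centralizer {a} := by
  rw [subH, Subgroup.closure_le]
  rintro g ⟨j, rfl⟩
  rw [SetLike.mem_coe, Subgroup.mem_centralizer_singleton_iff]
  exact (sub_comm M j).eq.symm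

end Cfsg.Agent.Lib.M24Pres72
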