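import Mathlib
import Cfsg.Agent.Lib.M24Pres72.Sound
import Cfsg.Agent.Lib.M24Pres72.Fin
import Cfsg.Agent.Lib.M24Pres72.Steps0
import Cfsg.Agent.Lib.M24Pres72.Steps1
import Cfsg.Agent.Lib.M24Pres72.Steps2
import Cfsg.Agent.Lib.M24Pres72.Steps3
import Cfsg.Agent.Lib.M24Pres72.Steps4
import Cfsg.Agent.Lib.M24Pres72.Steps5
import Cfsg.Agent.Lib.M24Pres72.Steps6
import Cfsg.Agent.Lib.M24Pres72.Steps7
import Cfsg.Agent.Lib.M24Pres72.Steps8
import Cfsg.Agent.Lib.M24Pres72.Steps9
import Cfsg.Agent.Lib.M24Pres72.Steps10
import Cfsg.Agent.Lib.M24Pres72.Steps11
import Cfsg.Agent.Lib.M24Pres72.Steps12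
import Cfsg.Agent.Lib.M24Pres72.Steps13
import Cfsg.Agent.Lib.M24Pres72.Steps14
import Cfsg.Agent.Lib.M24Pres72.Steps15
import Cfsg.Agent.Lib.M24Pres72.Steps16
import Cfsg.Agent.Lib.M24Pres72.Steps17
import Cfsg.Agent.Lib.M24Pres72.Steps18
import Cfsg.Agent.Lib.M24Pres72.Steps19
import Cfsg.Agent.Lib.M24Pres72.Steps20
import Cfsg.Agent.Lib.M24Pres72.Steps21
import Cfsg.Agent.Lib.M24Pres72.Steps22
import Cfsg.Agent.Lib.M24Pres72.Steps23
import Cfsg.Agent.Lib.M24Pres72.Steps24
import Cfsg.Agent.Lib.M24Pres72.Steps25
import Cfsg.Agent.Lib.M24Pres72.Steps26
import Cfsg.Agent.Lib.M24Pres72.Steps27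
import Cfsg.Agent.Lib.M24Pres72.Steps28
import Cfsg.Agent.Lib.M24Pres72.Steps29
import Cfsg.Agent.Lib.M24Pres72.Steps30
import Cfsg.Agent.Lib.M24Pres72.Steps31
import Cfsg.Agent.Lib.M24Pres72.Steps32
import Cfsg.Agent.Lib.M24Pres72.Steps33
import Cfsg.Agent.Lib.M24Pres72.Steps34
import Cfsg.Agent.Lib.M24Pres72.Steps35
import Cfsg.Agent.Lib.M24Pres72.Steps36
import Cfsg.Agent.Lib.M24Pres72.Steps37
import Cfsg.Agent.Lib.M24Pres72.Steps38
import Cfsg.Agent.Lib.M24Pres72.Steps39
import Cfsg.Agent.Lib.M24Pres72.Steps40
import Cfsg.Agent.Lib.M24Pres72.Steps41
import Cfsg.Agent.Lib.M24Pres72.Steps42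
import Cfsg.Agent.Lib.M24Pres72.Steps43
import Cfsg.Agent.Lib.M24Pres72.Steps44

/-! Generated: the index bound from the certificate. -/

namespace Cfsg.Agent.Lib.M24Pres72

theorem rules_ok : rulesOK (cyc relW subW) rules = true := by decide +kernel

theorem total0 : total stream0 = 6400 := by decide +kernel
theorem total1 : total stream1 = 6400 := by decide +kernel
theorem total2 : total stream2 = 6400 := by decide +kernel
theorem total3 : total stream3 = 6400 := by decide +kernel
theorem total4 : total stream4 = 6400 := by decide +kernel
theorem total5 : total stream5 = 6400 := by decide +kernel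
theorem total6 : total stream6 = 6400 := by decide +kernel
theorem total7 : total stream7 = 6400 := by decide +kernel
theorem total8 : total stream8 = 6400 := by decide +kernel
theorem total9 : total stream9 = 6400 := by decide +kernel
theorem total10 : total stream10 = 6400 := by decide +kernel
theorem total11 : total stream11 = 6400 := by decide +kernel
theorem total12 : total stream12 = 6400 := by decide +kernel
theorem total13 : total stream13 = 6400 := by decide +kernel
theorem total14 : total stream14 = 6400 := by decide +kernel
theorem total15 : total stream15 = 6400 := by decide +kernel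
theorem total16 : total stream16 = 6400 := by decide +kernel
theorem total17 : total stream17 = 6400 := by decide +kernel
theorem total18 : total stream18 = 6400 := by decide +kernel
theorem total19 : total stream19 = 6400 := by decide +kernel
theorem total20 : total stream20 = 6400 := by decide +kernel
theorem total21 : total stream21 = 6400 := by decide +kernel
theorem total22 : total stream22 = 6400 := by decide +kernel
theorem total23 : total stream23 = 6400 := by decide +kernel
theorem total24 : total stream24 = 6400 := by decide +kernel
theorem total25 : total stream25 = 6400 := by decide +kernel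
theorem total26 : total stream26 = 6400 := by decide +kernel
theorem total27 : total stream27 = 6400 := by decide +kernel
theorem total28 : total stream28 = 6400 := by decide +kernel
theorem total29 : total stream29 = 6400 := by decide +kernel
theorem total30 : total stream30 = 6400 := by decide +kernel
theorem total31 : total stream31 = 6400 := by decide +kernel
theorem total32 : total stream32 = 6400 := by decide +kernel
theorem total33 : total stream33 = 6400 := by decide +kernel
theorem total34 : total stream34 = 6400 := by decide +kernel
theorem total35 : total stream35 = 6400 := by decide +kernel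
theorem total36 : total stream36 = 6400 := by decide +kernel
theorem total37 : total stream37 = 6400 := by decide +kernel
theorem total38 : total stream38 = 6400 := by decide +kernel
theorem total39 : total stream39 = 6400 := by decide +kernel
theorem total40 : total stream40 = 6400 := by decide +kernel
theorem total41 : total stream41 = 6400 := by decide +kernel
theorem total42 : total stream42 = 6400 := by decide +kernel
theorem total43 : total stream43 = 6400 := by decide +kernel
theorem total44 : total stream44 = 2078 := by decide +kernel

theorem fin_zero : finNode (finAt fin 0) = 0 := by decide +kernel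

theorem finOK_split {facts fin : T} {N n : ℕ} : ∀ (m k i : ℕ), finOK facts fin N n m i = true →
    finOK facts fin N n k (i + m) = true → finOK facts fin N n (m + k) i = true
  | 0, k, i, _, h => by simpa using h
  | m + 1, k, i, h, h2 => by
    rw [finOK_succ, andB_iff] at h
    rw [Nat.add_right_comm, finOK_succ, andB_iff]
    exact ⟨h.1, finOK_split m k (Nat.succ i) h.2 (by rwa [Nat.succ_add, ← Nat.add_succ])⟩

theorem fin_part0 : finOK facts fin 283678 31878 2000 0 = true := by decide +kernel
theorem fin_part1 : finOK facts fin 283678 31878 2000 2000 = true := by decide +kernel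
theorem fin_part2 : finOK facts fin 283678 31878 2000 4000 = true := by decide +kernel
theorem fin_part3 : finOK facts fin 283678 31878 2000 6000 = true := by decide +kernel
theorem fin_part4 : finOK facts fin 283678 31878 2000 8000 = true := by decide +kernel
theorem fin_part5 : finOK facts fin 283678 31878 2000 10000 = true := by decide +kernel
theorem fin_part6 : finOK facts fin 283678 31878 2000 12000 = true := by decide +kernel
theorem fin_part7 : finOK facts fin 283678 31878 2000 14000 = true := by decide +kernel
theorem fin_part8 : finOK facts fin 283678 31878 2000 16000 = true := by decide +kernel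
theorem fin_part9 : finOK facts fin 283678 31878 2000 18000 = true := by decide +kernel
theorem fin_part10 : finOK facts fin 283678 31878 2000 20000 = true := by decide +kernel
theorem fin_part11 : finOK facts fin 283678 31878 2000 22000 = true := by decide +kernel
theorem fin_part12 : finOK facts fin 283678 31878 2000 24000 = true := by decide +kernel
theorem fin_part13 : finOK facts fin 283678 31878 2000 26000 = true := by decide +kernel
theorem fin_part14 : finOK facts fin 283678 31878 2000 28000 = true := by decide +kernel
theorem fin_part15 : finOK facts fin 283678 31878 1878 30000 = true := by decide +kernel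

theorem fin_ok : finOK facts fin 283678 31878 31878 0 = true := by
  have h15 := fin_part15
  have h14 : finOK facts fin 283678 31878 (3878) 28000 = true := finOK_split 2000 1878 28000 fin_part14 h15
  have h13 : finOK facts fin 283678 31878 (5878) 26000 = true := finOK_split 2000 3878 26000 fin_part13 h14
  have h12 : finOK facts fin 283678 31878 (7878) 24000 = true := finOK_split 2000 5878 24000 fin_part12 h13
  have h11 : finOK facts fin 283678 31878 (9878) 22000 = true := finOK_split 2000 7878 22000 fin_part11 h12
  have h10 : finOK facts fin 283678 31878 (11878) 20000 = true := finOK_split 2000 9878 20000 fin_part10 h11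
  have h9 : finOK facts fin 283678 31878 (13878) 18000 = true := finOK_split 2000 11878 18000 fin_part9 h10
  have h8 : finOK facts fin 283678 31878 (15878) 16000 = true := finOK_split 2000 13878 16000 fin_part8 h9
  have h7 : finOK facts fin 283678 31878 (17878) 14000 = true := finOK_split 2000 15878 14000 fin_part7 h8
  have h6 : finOK facts fin 283678 31878 (19878) 12000 = true := finOK_split 2000 17878 12000 fin_part6 h7
  have h5 : finOK facts fin 283678 31878 (21878) 10000 = true := finOK_split 2000 19878 10000 fin_part5 h6
  have h4 : finOK facts fin 283678 31878 (23878) 8000 = true := finOK_split 2000 21878 8000 fin_part4 h5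
  have h3 : finOK facts fin 283678 31878 (25878) 6000 = true := finOK_split 2000 23878 6000 fin_part3 h4
  have h2 : finOK facts fin 283678 31878 (27878) 4000 = true := finOK_split 2000 25878 4000 fin_part2 h3
  have h1 : finOK facts fin 283678 31878 (29878) 2000 = true := finOK_split 2000 27878 2000 fin_part1 h2
  have h0 : finOK facts fin 283678 31878 (31878) 0 = true := finOK_split 2000 29878 0 fin_part0 h1
  exact h0

theorem index_sub {F : Type*} [Group F] {a b : F} (M : Model a b relW subW) :
    (subH a b subW).FiniteIndex ∧ (subH a b subW).index ≤ 31878 := by
  have v0 := valid_start (a := a) (b := b) (subs := subW) facts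
  have v1 := goStreams_valid M rules_ok stream0 0 1 steps0 v0
  rw [total0] at v1
  have v2 := goStreams_valid M rules_ok stream1 6400 5037 steps1 v1
  rw [total1] at v2
  have v3 := goStreams_valid M rules_ok stream2 12800 10612 steps2 v2
  rw [total2] at v3
  have v4 := goStreams_valid M rules_ok stream3 19200 16117 steps3 v3
  rw [total3] at v4
  have v5 := goStreams_valid M rules_ok stream4 25600 21483 steps4 v4
  rw [total4] at v5
  have v6 := goStreams_valid M rules_ok stream5 32000 27100 steps5 v5
  rw [total5] at v6
  have v7 := goStreams_valid M rules_ok stream6 38400 32444 steps6 v6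
  rw [total6] at v7
  have v8 := goStreams_valid M rules_ok stream7 44800 37679 steps7 v7
  rw [total7] at v8
  have v9 := goStreams_valid M rules_ok stream8 51200 43055 steps8 v8
  rw [total8] at v9
  have v10 := goStreams_valid M rules_ok stream9 57600 49044 steps9 v9
  rw [total9] at v10
  have v11 := goStreams_valid M rules_ok stream10 64000 54493 steps10 v10
  rw [total10] at v11
  have v12 := goStreams_valid M rules_ok stream11 70400 59812 steps11 v11
  rw [total11] at v12
  have v13 := goStreams_valid M rules_ok stream12 76800 65031 steps12 v12
  rw [total12] at v13
  have v14 := goStreams_valid M rules_ok stream13 83200 71092 steps13 v13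
  rw [total13] at v14
  have v15 := goStreams_valid M rules_ok stream14 89600 76501 steps14 v14
  rw [total14] at v15
  have v16 := goStreams_valid M rules_ok stream15 96000 82360 steps15 v15
  rw [total15] at v16
  have v17 := goStreams_valid M rules_ok stream16 102400 87505 steps16 v16
  rw [total16] at v17
  have v18 := goStreams_valid M rules_ok stream17 108800 92446 steps17 v17
  rw [total17] at v18
  have v19 := goStreams_valid M rules_ok stream18 115200 92446 steps18 v18
  rw [total18] at v19
  have v20 := goStreams_valid M rules_ok stream19 121600 92446 steps19 v19
  rw [total19] at v20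
  have v21 := goStreams_valid M rules_ok stream20 128000 92446 steps20 v20
  rw [total20] at v21
  have v22 := goStreams_valid M rules_ok stream21 134400 92446 steps21 v21
  rw [total21] at v22
  have v23 := goStreams_valid M rules_ok stream22 140800 92446 steps22 v22
  rw [total22] at v23
  have v24 := goStreams_valid M rules_ok stream23 147200 92446 steps23 v23
  rw [total23] at v24
  have v25 := goStreams_valid M rules_ok stream24 153600 92446 steps24 v24
  rw [total24] at v25
  have v26 := goStreams_valid M rules_ok stream25 160000 92446 steps25 v25
  rw [total25] at v26
  have v27 := goStreams_valid M rules_ok stream26 166400 92446 steps26 v26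
  rw [total26] at v27
  have v28 := goStreams_valid M rules_ok stream27 172800 92446 steps27 v27
  rw [total27] at v28
  have v29 := goStreams_valid M rules_ok stream28 179200 92446 steps28 v28
  rw [total28] at v29
  have v30 := goStreams_valid M rules_ok stream29 185600 92446 steps29 v29
  rw [total29] at v30
  have v31 := goStreams_valid M rules_ok stream30 192000 92446 steps30 v30
  rw [total30] at v31
  have v32 := goStreams_valid M rules_ok stream31 198400 92446 steps31 v31
  rw [total31] at v32
  have v33 := goStreams_valid M rules_ok stream32 204800 92446 steps32 v32
  rw [total32] at v33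
  have v34 := goStreams_valid M rules_ok stream33 211200 92446 steps33 v33
  rw [total33] at v34
  have v35 := goStreams_valid M rules_ok stream34 217600 92446 steps34 v34
  rw [total34] at v35
  have v36 := goStreams_valid M rules_ok stream35 224000 92446 steps35 v35
  rw [total35] at v36
  have v37 := goStreams_valid M rules_ok stream36 230400 92446 steps36 v36
  rw [total36] at v37
  have v38 := goStreams_valid M rules_ok stream37 236800 93227 steps37 v37
  rw [total37] at v38
  have v39 := goStreams_valid M rules_ok stream38 243200 97519 steps38 v38
  rw [total38] at v39
  have v40 := goStreams_valid M rules_ok stream39 249600 100822 steps39 v39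
  rw [total39] at v40
  have v41 := goStreams_valid M rules_ok stream40 256000 103161 steps40 v40
  rw [total40] at v41
  have v42 := goStreams_valid M rules_ok stream41 262400 105398 steps41 v41
  rw [total41] at v42
  have v43 := goStreams_valid M rules_ok stream42 268800 107068 steps42 v42
  rw [total42] at v43
  have v44 := goStreams_valid M rules_ok stream43 275200 108011 steps43 v43
  rw [total43] at v44
  have v45 := goStreams_valid M rules_ok stream44 281600 108647 steps44 v44
  rw [total44] at v45
  obtain ⟨w, V⟩ := v45
  exact index_le M V (by decide) fin_zero fin_ok

end Cfsg.Agent.Lib.M24Pres72
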