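import Mathlib
import Cfsg.Agent.Lib.Compute.Mathieu.Groups
import Cfsg.Agent.Lib.Compute.Mathieu.Outer
import Cfsg.Agent.Lib.M24Pres72.PermData
import Cfsg.Agent.Lib.M24Pres72.Rules

/-! Two permutations generating `M24` and satisfying the relators. -/

namespace Cfsg.Agent.Lib.M24Pres72

open Cfsg.Agent.Lib.Compute Cfsg.Agent.Lib.Compute.Mathieu

theorem pairXY_check : pairXY.all (pairCheck 8 24 m24Chain) = true := by decide +kernel
theorem chainXY_ok : chainCheck (permOps 8 24) pairXY chainXY = true := by decide +kernel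
theorem chainXY_size : chainSize chainXY = 244823040 := by decide +kernel
theorem chainSub_ok : chainCheck (permOps 8 24) pairSub chainSub = true := by decide +kernel
theorem chainSub_size : chainSize chainSub = 7680 := by decide +kernel

theorem pairXY_sound : GensOK ptCoding pairXY ∧ genGroup ptCoding pairXY ≤ genGroup ptCoding m24Gens :=
  gensOK_of_pairCheck ptEquiv (by decide) gensOK_m24 m24Chain_ok pairXY_check

theorem genGroup_pairXY : genGroup ptCoding pairXY = Cfsg.M24 := by
  rw [← m24_eq_gen]
  refine Subgroup.eq_of_le_of_card_ge pairXY_sound.2 (le_of_eq ?_)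
  rw [card_genGroup ptCoding pairXY_sound.1 chainXY_ok, chainXY_size,
    card_genGroup ptCoding gensOK_m24 m24Chain_ok, m24Chain_size]

theorem exists_px : ∃ g : Equiv.Perm Cfsg.GolayPt, ptCoding.enc g = (pairXY.getD 0 (0, 0)).1 ∧
    ptCoding.enc g⁻¹ = (pairXY.getD 0 (0, 0)).2 := by
  obtain ⟨g, -, h⟩ := pairXY_sound.1 (pairXY.getD 0 (0, 0)) (by simp [pairXY])
  exact ⟨g, h⟩

theorem exists_py : ∃ g : Equiv.Perm Cfsg.GolayPt, ptCoding.enc g = (pairXY.getD 1 (0, 0)).1 ∧
    ptCoding.enc g⁻¹ = (pairXY.getD 1 (0, 0)).2 := by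
  obtain ⟨g, -, h⟩ := pairXY_sound.1 (pairXY.getD 1 (0, 0)) (by simp [pairXY])
  exact ⟨g, h⟩

/-- the involution -/
noncomputable def px : Equiv.Perm Cfsg.GolayPt := exists_px.choose
/-- the element of order three -/
noncomputable def py : Equiv.Perm Cfsg.GolayPt := exists_py.choose

theorem px_mem : px ∈ Cfsg.M24 := by
  rw [← genGroup_pairXY]
  exact mem_genGroup_of_enc ptCoding (by simp [pairXY]) exists_px.choose_spec.1

theorem py_mem : py ∈ Cfsg.M24 := by
  rw [← genGroup_pairXY]
  exact mem_genGroup_of_enc ptCoding (by simp [pairXY]) exists_py.choose_spec.1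

theorem closure_eq : Subgroup.closure ({px, py} : Set (Equiv.Perm Cfsg.GolayPt)) = Cfsg.M24 := by
  refine le_antisymm ((Subgroup.closure_le _).2 ?_) ?_
  · rintro g (rfl | rfl)
    exacts [px_mem, py_mem]
  rw [← genGroup_pairXY, genGroup, Subgroup.closure_le]
  rintro g ⟨p, hp, hg⟩
  refine Subgroup.subset_closure ?_
  simp only [pairXY, List.mem_cons, List.not_mem_nil, or_false] at hp
  rcases hp with rfl | rfl
  · exact Or.inl (ptCoding.inj (hg.trans exists_px.choose_spec.1.symm))
  · exact Or.inr (ptCoding.inj (hg.trans exists_py.choose_spec.1.symm))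

/-- code of a word in the two permutations -/
noncomputable def wordCode : List ℕ → ℕ
  | [] => (permOps 8 24).one
  | l :: w => (permOps 8 24).mul
      (if l = 0 then (pairXY.getD 0 (0, 0)).1 else if l = 1 then (pairXY.getD 1 (0, 0)).1
        else (pairXY.getD 1 (0, 0)).2) (wordCode w)

theorem enc_letter (l : ℕ) : ptCoding.enc (if l = 0 then px else if l = 1 then py else py⁻¹) =
    (if l = 0 then (pairXY.getD 0 (0, 0)).1 else if l = 1 then (pairXY.getD 1 (0, 0)).1
      else (pairXY.getD 1 (0, 0)).2) := by
  split_ifs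
  · exact exists_px.choose_spec.1
  · exact exists_py.choose_spec.1
  · exact exists_py.choose_spec.2

theorem enc_word : ∀ w : List ℕ,
    ptCoding.enc ((w.map fun l => if l = 0 then px else if l = 1 then py else py⁻¹).prod) =
      wordCode w
  | [] => ptCoding.one_enc
  | l :: w => by
    simp only [List.map_cons, List.prod_cons, wordCode]
    rw [← ptCoding.mul_enc, enc_word w, enc_letter]

theorem rel_code : (relW.all fun w => Nat.beq (wordCode w) (permOps 8 24).one) = true := by decide +kernel

theorem word_one {w : List ℕ} (hw : w ∈ relW) :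
    ((w.map fun l => if l = 0 then px else if l = 1 then py else py⁻¹).prod) = 1 := by
  apply ptCoding.inj
  rw [enc_word w, Nat.eq_of_beq_eq_true (List.all_eq_true.1 rel_code w hw)]
  exact ptCoding.one_enc.symm

theorem sub_code : (subW.map wordCode) = pairSub.map Prod.fst := by decide +kernel
theorem sub_inv_code : (pairSub.all (pairCheck 8 24 m24Chain)) = true := by decide +kernel

theorem card_sub_le (S : Set (Equiv.Perm Cfsg.GolayPt))
    (hS : ∀ g ∈ S, ptCoding.enc g ∈ pairSub.map Prod.fst ∨ g = 1) :
    Nat.card (Subgroup.closure S) ≤ 7680 := by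
  have h := gensOK_of_pairCheck ptEquiv (by decide) gensOK_m24 m24Chain_ok sub_inv_code
  have hc : Nat.card (genGroup ptCoding pairSub) = 7680 := by
    rw [card_genGroup ptCoding h.1 chainSub_ok, chainSub_size]
  have hle : Subgroup.closure S ≤ genGroup ptCoding pairSub := (Subgroup.closure_le _).2 fun g hg => by
    rcases hS g hg with h' | rfl
    · obtain ⟨p, hp, e⟩ := List.mem_map.1 h'
      exact mem_genGroup_of_enc ptCoding hp e.symm
    · exact one_mem _
  rw [← hc]
  exact Subgroup.card_le_of_le hle

end Cfsg.Agent.Lib.M24Pres72
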