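import Mathlib
import Cfsg.Agent.Lib.M24Pres72.Comm
import Cfsg.Agent.Lib.M24Pres72.Perms
import Cfsg.Agent.Lib.M24Pres72.Index
import Cfsg.Agent.Lib.Compute.Mathieu.Multiplier
import Cfsg.Agent.Lib.Golay.Simple

/-! The seven relators present the Mathieu group `M24`. -/

namespace Cfsg.Agent.Lib.M24Pres72

open Cfsg.Agent.Lib.Compute.Mathieu

/-- a word as an element of the free group -/
def freeW (w : List ℕ) : FreeGroup (Fin 2) :=
  plainVal (FreeGroup.of 0) (FreeGroup.of 1) w

/-- the relators -/
def relSet : Set (FreeGroup (Fin 2)) := {r | r ∈ relW.map freeW}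

/-- the presented group -/
abbrev Pres : Type := PresentedGroup relSet

theorem map_plain {G H : Type*} [Group G] [Group H] (φ : G →* H) (u v : G) (w : List ℕ) :
    φ (plainVal u v w) = plainVal (φ u) (φ v) w := by
  unfold plainVal wordVal
  rw [map_list_prod, List.map_map]
  congr 1
  refine List.map_congr_left fun l _ => ?_
  simp only [Function.comp, letterVal, apply_ite φ, map_inv, map_one]

/-- the involution -/
def genA : Pres := PresentedGroup.of 0
/-- the element of order three -/
def genB : Pres := PresentedGroup.of 1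

theorem plain_lt : ∀ w ∈ relW ++ subW, ∀ l ∈ w, l < 3 := by decide +kernel

theorem model : Model genA genB relW subW := by
  have hrel : ∀ w ∈ relW, plainVal genA genB w = 1 := fun w hw => by
    have h := PresentedGroup.one_of_mem (rels := relSet) (x := freeW w) (List.mem_map.2 ⟨w, hw, rfl⟩)
    rw [freeW, map_plain] at h
    exact h
  refine ⟨?_, hrel, ?_, plain_lt⟩
  · simpa [relW, plainVal, wordVal, letterVal] using hrel [0, 0] (by simp [relW])
  · rw [eq_top_iff, ← PresentedGroup.closure_range_of relSet]
    refine Subgroup.closure_mono ?_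
    rintro _ ⟨i, rfl⟩
    fin_cases i
    exacts [Or.inl rfl, Or.inr rfl]

theorem cube : genB * genB * genB = 1 := by
  simpa [relW, plainVal, wordVal, letterVal, mul_assoc] using model.rel [1, 1, 1] (by simp [relW])

theorem long_rel : (genA * genB) ^ 23 = 1 := by
  have := model.rel (relW.getD 6 []) (by simp [relW])
  simpa [relW, plainVal, wordVal, letterVal, pow_succ, mul_assoc] using this

/-- a normal subgroup containing the involution is everything -/
theorem eq_top_of_mem {K : Subgroup Pres} [K.Normal] (h : genA ∈ K) : K = ⊤ := by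
  have ha : (QuotientGroup.mk genA : Pres ⧸ K) = 1 := (QuotientGroup.eq_one_iff _).2 h
  have h3 : (QuotientGroup.mk genB : Pres ⧸ K) ^ 3 = 1 := by
    have := congrArg (QuotientGroup.mk' K) cube
    simpa [pow_succ] using this
  have h23 : (QuotientGroup.mk genB : Pres ⧸ K) ^ 23 = 1 := by
    have := congrArg (QuotientGroup.mk' K) long_rel
    simpa [ha] using this
  have hb : (QuotientGroup.mk genB : Pres ⧸ K) = 1 := by
    have h := pow_gcd_eq_one.2 ⟨h3, h23⟩
    simpa using h
  rw [eq_top_iff, ← model.gen, Subgroup.closure_le]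
  rintro g (rfl | rfl)
  exacts [h, (QuotientGroup.eq_one_iff _).1 hb]

theorem perfect : commutator Pres = ⊤ := by
  apply eq_top_of_mem
  rw [← Abelianization.ker_of, MonoidHom.mem_ker]
  have h2 : Abelianization.of genA * Abelianization.of genA = 1 := by
    rw [← map_mul, model.sq, map_one]
  have h3 : Abelianization.of genB ^ 3 = 1 := by rw [← map_pow, pow_succ, pow_succ, pow_one, cube, map_one]
  have h23 : (Abelianization.of genA * Abelianization.of genB) ^ 23 = 1 := by
    rw [← map_mul, ← map_pow, long_rel, map_one]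
  have ha23 : Abelianization.of genA ^ 23 = Abelianization.of genA := by
    rw [show (23 : ℕ) = 2 * 11 + 1 by norm_num, pow_succ, pow_mul, pow_two, h2, one_pow, one_mul]
  rw [mul_pow, ha23, show (23 : ℕ) = 3 * 7 + 2 by norm_num, pow_add, pow_mul, h3, one_pow,
    one_mul] at h23
  have hb : Abelianization.of genA = Abelianization.of genB := by
    calc Abelianization.of genA
        = Abelianization.of genA * Abelianization.of genB ^ 2 * Abelianization.of genB := by
          rw [mul_assoc, ← pow_succ, h3, mul_one]
      _ = Abelianization.of genB := by rw [h23, one_mul]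
  calc Abelianization.of genA
      = Abelianization.of genA ^ 3 := by rw [pow_succ, pow_two, h2, one_mul]
    _ = 1 := by rw [hb, h3]

/-- images of the generators -/
noncomputable def permGen : Fin 2 → Equiv.Perm Cfsg.GolayPt := ![px, py]

theorem plain_perm (w : List ℕ) (h : ∀ l ∈ w, l < 3) :
    plainVal px py w = ((w.map fun l => if l = 0 then px else if l = 1 then py else py⁻¹).prod) := by
  unfold plainVal wordVal
  congr 1
  refine List.map_congr_left fun l hl => ?_
  have := h l hl
  interval_cases l <;> simp [letterVal]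

theorem permGen_rel : ∀ r ∈ relSet, FreeGroup.lift permGen r = 1 := by
  intro r hr
  obtain ⟨w, hw, rfl⟩ := List.mem_map.1 hr
  rw [freeW, map_plain]
  simp only [FreeGroup.lift_apply_of, permGen, Matrix.cons_val_zero, Matrix.cons_val_one]
  rw [plain_perm w fun l hl => plain_lt w (List.mem_append_left _ hw) l hl]
  exact word_one hw

/-- the permutation representation -/
noncomputable def toPerm : Pres →* Equiv.Perm Cfsg.GolayPt :=
  PresentedGroup.toGroup (f := permGen) permGen_rel

theorem toPerm_A : toPerm genA = px := PresentedGroup.toGroup.of _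
theorem toPerm_B : toPerm genB = py := PresentedGroup.toGroup.of _

theorem toPerm_range : toPerm.range = Cfsg.M24 := by
  rw [MonoidHom.range_eq_map, ← model.gen, MonoidHom.map_closure, Set.image_pair, toPerm_A,
    toPerm_B, closure_eq]

theorem card_M24 : Nat.card Cfsg.M24 = 244823040 := by
  rw [← genGroup_pairXY, Compute.card_genGroup ptCoding pairXY_sound.1 chainXY_ok, chainXY_size]

theorem card_map_sub : Nat.card ((subH genA genB subW).map toPerm) ≤ 7680 := by
  rw [subH, MonoidHom.map_closure]
  refine card_sub_le _ ?_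
  rintro _ ⟨_, ⟨j, rfl⟩, rfl⟩
  rw [← sub_code, subGen]
  by_cases hj : j < subW.length
  · refine Or.inl (List.mem_map.2 ⟨subW.getD j [], ?_, ?_⟩)
    · rw [List.getD_eq_getElem _ _ hj]; exact List.getElem_mem hj
    · have hl : ∀ l ∈ subW.getD j [], l < 3 := by
        rw [List.getD_eq_getElem _ _ hj]
        exact plain_lt _ (List.mem_append_right _ (List.getElem_mem hj))
      rw [map_plain, toPerm_A, toPerm_B, plain_perm _ hl, enc_word]
  · refine Or.inr ?_
    rw [List.getD_eq_default _ _ (Nat.le_of_not_lt hj)]
    simp [plainVal, wordVal]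

theorem ker_le_sub : toPerm.ker ≤ subH genA genB subW := by
  obtain ⟨hfi, hle⟩ := index_sub model
  set H := subH genA genB subW
  set K := H ⊔ toPerm.ker with hK
  have h1 : (K.map toPerm).relIndex Cfsg.M24 = K.index := by
    rw [← toPerm_range, MonoidHom.range_eq_map, Subgroup.relIndex_map_map, top_sup_eq,
      Subgroup.relIndex_top_right, sup_assoc, sup_idem]
  have hmap : K.map toPerm = H.map toPerm := by
    rw [Subgroup.map_sup, (Subgroup.map_eq_bot_iff _).2 le_rfl, sup_bot_eq]
  have hle' : H.map toPerm ≤ Cfsg.M24 := by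
    rw [← toPerm_range]; exact Subgroup.map_le_range _ _
  have h2 : Nat.card (H.map toPerm) * (H.map toPerm).relIndex Cfsg.M24 = 244823040 := by
    rw [← card_M24, ← Subgroup.relIndex_bot_left, ← Subgroup.relIndex_bot_left]
    exact Subgroup.relIndex_mul_relIndex _ _ _ bot_le hle'
  rw [← hmap, h1] at h2
  rw [hmap] at h2
  have h3 : H.index = H.relIndex K * K.index := (Subgroup.relIndex_mul_index le_sup_left).symm
  have h4 := card_map_sub
  have h5 : H.index ≠ 0 := hfi.index_ne_zero
  have h6 : 31878 ≤ K.index := by
    by_contra hc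
    have : Nat.card (H.map toPerm) * K.index ≤ 7680 * 31877 := Nat.mul_le_mul h4 (by omega)
    omega
  have h7 : H.relIndex K = 1 := by
    have : H.relIndex K ≠ 0 := fun h0 => h5 (by rw [h3, h0, zero_mul])
    have : H.relIndex K * K.index ≤ 1 * K.index := by rw [← h3, one_mul]; omega
    have := Nat.le_of_mul_le_mul_right this (by omega)
    omega
  exact le_trans le_sup_right (Subgroup.relIndex_eq_one.1 h7)

theorem ker_central : toPerm.ker ≤ Subgroup.center Pres := by
  have hA : genA ∈ Subgroup.centralizer (toPerm.ker : Set Pres) := by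
    rw [Subgroup.mem_centralizer_iff]
    intro g hg
    exact Subgroup.mem_centralizer_singleton_iff.1 (subH_le_centralizer model (ker_le_sub hg))
  have h := eq_top_of_mem hA
  intro g hg
  rw [Subgroup.mem_center_iff]
  intro x
  exact (Subgroup.mem_centralizer_iff.1 (h ▸ Subgroup.mem_top x) g hg).symm

theorem finite_pres : Finite Pres := by
  classical
  have hfi : (Subgroup.center Pres).FiniteIndex := by
    have : toPerm.ker.FiniteIndex := by
      refine ⟨?_⟩
      rw [Subgroup.index_ker]
      exact Nat.card_pos.ne'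
    exact Subgroup.finiteIndex_of_le ker_central
  haveI := hfi
  haveI : Finite (Pres ⧸ Subgroup.center Pres) := inferInstance
  have hc : (commutatorSet Pres).Finite := by
    open scoped commutatorElement in
    refine (Set.finite_range fun p : (Pres ⧸ Subgroup.center Pres) × (Pres ⧸ Subgroup.center Pres) =>
      ⁅p.1.out, p.2.out⁆).subset ?_
    rintro _ ⟨u, v, rfl⟩
    refine ⟨(u, v), ?_⟩
    obtain ⟨z, hz⟩ := QuotientGroup.mk_out_eq_mul (Subgroup.center Pres) u
    obtain ⟨z', hz'⟩ := QuotientGroup.mk_out_eq_mul (Subgroup.center Pres) v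
    have c1 := Subgroup.mem_center_iff.1 z.2
    have c2 := Subgroup.mem_center_iff.1 z'.2
    simp only [hz, hz', commutatorElement_def, mul_inv_rev]
    calc u * z * (v * z') * ((z : Pres)⁻¹ * u⁻¹) * ((z' : Pres)⁻¹ * v⁻¹)
        = u * (v * z') * u⁻¹ * ((z' : Pres)⁻¹ * v⁻¹) := by
          rw [mul_assoc u (z : Pres), ← c1 (v * z'), mul_assoc u, mul_assoc (v * (z' : Pres)) (z : Pres),
            mul_inv_cancel_left, ← mul_assoc u]
      _ = u * v * u⁻¹ * v⁻¹ := by
          rw [← mul_assoc u v, mul_assoc (u * v) (z' : Pres), ← c2 u⁻¹]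
          simp only [mul_assoc, mul_inv_cancel_left]
  haveI := hc.to_subtype
  haveI : Finite (commutator Pres) := inferInstance
  rw [perfect] at this
  exact Finite.of_equiv _ Subgroup.topEquiv.toEquiv

/-- the surjection onto `M24` -/
noncomputable def toM24 : Pres →* Cfsg.M24 :=
  toPerm.codRestrict Cfsg.M24 fun g => toPerm_range ▸ ⟨g, rfl⟩

theorem toM24_surjective : Function.Surjective toM24 := by
  rintro ⟨g, hg⟩
  rw [← toPerm_range] at hg
  obtain ⟨x, hx⟩ := hg
  exact ⟨x, Subtype.ext hx⟩

theorem toM24_injective : Function.Injective toM24 := by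
  haveI := finite_pres
  have hk : toM24.ker = toPerm.ker := by
    ext g; simp [toM24, MonoidHom.mem_ker, Subtype.ext_iff]
  obtain ⟨π, hπ⟩ := schur_M24.2 Pres toM24
    ⟨toM24_surjective, hk ▸ ker_central, by rw [perfect]; exact le_top⟩
  rw [← MonoidHom.ker_eq_bot_iff, eq_bot_iff]
  intro g hg
  obtain ⟨u, hu⟩ := hπ ⟨g, hg⟩
  obtain ⟨v, hv⟩ := hπ 1
  have : u = v := Subsingleton.elim u v
  subst this
  rw [hu] at hv
  exact congrArg Subtype.val hv

/-- the presented group is `M24` -/
noncomputable def presEquiv : Pres ≃* Cfsg.M24 :=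
  MulEquiv.ofBijective toM24 ⟨toM24_injective, toM24_surjective⟩

end Cfsg.Agent.Lib.M24Pres72
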